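import Groth.Agent.H3CAlg.Mori.Lift
import Groth.Agent.H05EGA4.CompleteNormalization
import Mathlib.RingTheory.AdicCompletion.AsTensorProduct
import Mathlib.RingTheory.AdicCompletion.Noetherian
import Mathlib.RingTheory.Flat.FaithfullyFlat.Algebra
import Groth.Agent.H05EGA4.Regular2
import Mathlib.RingTheory.AdicCompletion.LocalRing
import Mathlib.RingTheory.Adjoin.FG
import Mathlib.RingTheory.Valuation.Discrete.Basic

/-! Mori's theorem: the integral closure of a Noetherian local domain is a Krull domain. -/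

set_option autoImplicit false
set_option maxHeartbeats 1000000
universe u

open CAlg
open scoped WithZero

namespace Groth.Agent.H3CAlg.Mori

section Generic

theorem comap_algHom {A B S N : Type u} [CommRing A] [CommRing B] [CommRing S] [CommRing N] [Algebra A B]
    [Algebra A S] [Algebra A N] [Algebra B N] [IsScalarTower A B N] (f : S →ₐ[A] N) (Q : Ideal N) :
    (Q.comap f.toRingHom).comap (algebraMap A S) = (Q.comap (algebraMap B N)).comap (algebraMap A B) := by
  rw [Ideal.comap_comap, Ideal.comap_comap, ← IsScalarTower.algebraMap_eq]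
  congr 1
  exact RingHom.ext fun a => f.commutes a

theorem eq_of_conductor {B N : Type u} [CommRing B] [CommRing N] [Algebra B N] {c : B}
    (hc : ∀ y : N, ∃ b : B, algebraMap B N b = algebraMap B N c * y) {Q Q0 : Ideal N} [Q.IsPrime]
    [Q0.IsPrime] (hq : Q0.comap (algebraMap B N) = Q.comap (algebraMap B N))
    (hcQ : algebraMap B N c ∉ Q) : Q0 = Q := by
  have hcQ0 : algebraMap B N c ∉ Q0 := fun h => hcQ (by
    have : c ∈ Q0.comap (algebraMap B N) := h
    rwa [hq] at this)
  refine le_antisymm (fun y hy => ?_) (fun y hy => ?_)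
  · obtain ⟨b, hb⟩ := hc y
    have h1 : b ∈ Q0.comap (algebraMap B N) := by
      rw [Ideal.mem_comap, hb]; exact Ideal.mul_mem_left _ _ hy
    rw [hq, Ideal.mem_comap, hb] at h1
    exact ((inferInstance : Q.IsPrime).mem_or_mem h1).resolve_left hcQ
  · obtain ⟨b, hb⟩ := hc y
    have h1 : b ∈ Q.comap (algebraMap B N) := by
      rw [Ideal.mem_comap, hb]; exact Ideal.mul_mem_left _ _ hy
    rw [← hq, Ideal.mem_comap, hb] at h1
    exact ((inferInstance : Q0.IsPrime).mem_or_mem h1).resolve_left hcQ0

end Generic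

section
variable {A : Type u} [CommRing A] [IsDomain A] (K : Type u) [Field K] [Algebra A K] [IsFractionRing A K]
  {B : Type u} [CommRing B] [Algebra A B] [IsNoetherianRing B] [Module.FaithfullyFlat A B]

theorem cen_eq (hB : IsNagata B) (i : Idx B) :
    ((isKrullFamily (A := A) K hB).cen i : Ideal (integralClosure A K)) =
      i.2.1.comap (rho (A := A) K i.1).toRingHom := by
  ext s
  rw [Ideal.mem_comap]
  exact (IsKrullFamily.mem_cen (h := isKrullFamily (A := A) K hB) (i := i) (a := s)).trans
    (valN_lt_one_iff hB i (rho (A := A) K i.1 s))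

noncomputable abbrev cenA (hB : IsNagata B) (i : Idx B) : Ideal A :=
  (Ideal.comap (algebraMap A (integralClosure A K)) ((isKrullFamily (A := A) K hB).cen i))

theorem cenA_eq (hB : IsNagata B) (i : Idx B) :
    cenA (A := A) K hB i = (i.2.1.comap (algebraMap B (N B i.1))).comap (algebraMap A B) := by
  rw [cenA, cen_eq]
  exact comap_algHom (rho (A := A) K i.1) i.2.1

theorem exists_good_or_finite (hB : IsNagata B) :
    ∃ bad : Set (Idx B), bad.Finite ∧ ∀ i ∉ bad, ∀ (P' : Ideal (integralClosure A K)), P'.IsPrime →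
      P'.comap (algebraMap A (integralClosure A K)) = cenA (A := A) K hB i →
      P' = (isKrullFamily (A := A) K hB).cen i := by
  haveI : Finite (minimalPrimes B) := (minimalPrimes.finite_of_isNoetherianRing B).to_subtype
  choose c hc0 hcR hcN using fun P => exists_conductor hB P
  refine ⟨{i | algebraMap B (N B i.1) (c i.1) ∈ i.2.1}, ?_, ?_⟩
  · refine (Set.finite_iUnion (f := fun P : minimalPrimes B => (fun Q => (⟨P, Q⟩ : Idx B)) ''
      {Q : {Q : Ideal (N B P) // Q.IsPrime ∧ Q.height = 1} | algebraMap B (N B P) (c P) ∈ Q.1})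
      fun P => Set.Finite.image _ ?_).subset fun i hi => Set.mem_iUnion.2 ⟨i.1, i.2, hi, rfl⟩
    haveI := noetherian_N hB P
    exact ((finite_height_one (hc0 P)).preimage Subtype.val_injective.injOn).subset
      fun Q hQ => ⟨Q.2, hQ⟩
  · intro i hi P' hP' he
    haveI := hP'
    haveI := i.2.2.1
    rw [cenA_eq] at he
    obtain ⟨R, Q0, hQ0, hq, hP⟩ := exists_lift K hB P' (i.2.1.comap (algebraMap B (N B i.1))) he
    have hR : R = i.1 := by
      by_contra hne
      have h1 : c i.1 ∈ Q0.comap (algebraMap B (N B R)) := ker_le_comap R Q0 (hcR i.1 R hne)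
      rw [hq] at h1
      exact hi h1
    subst hR
    haveI := hQ0
    have hQ : Q0 = i.2.1 := eq_of_conductor (hcN i.1) hq hi
    rw [← hP, hQ, cen_eq]

theorem finite_over (hB : IsNagata B) (p : Ideal A) [p.IsPrime] :
    {P' : Ideal (integralClosure A K) | P'.IsPrime ∧ P'.comap (algebraMap A (integralClosure A K)) = p}.Finite := by
  haveI : Finite (minimalPrimes B) := (minimalPrimes.finite_of_isNoetherianRing B).to_subtype
  obtain ⟨q, hq⟩ := PrimeSpectrum.comap_surjective_of_faithfullyFlat (A := A) (B := B) ⟨p, inferInstance⟩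
  refine (Set.finite_iUnion (f := fun R : minimalPrimes B =>
    (fun Q : Ideal (N B R) => Q.comap (rho (A := A) K R).toRingHom) '' q.asIdeal.primesOver (N B R))
    fun R => Set.Finite.image _ ?_).subset ?_
  · haveI := finite_N hB R
    exact Algebra.QuasiFinite.finite_primesOver _
  · rintro P' ⟨hP', he⟩
    haveI := hP'
    obtain ⟨R, Q, hQ, hQq, hP⟩ := exists_lift K hB P' q.asIdeal
      (he.trans (congr_arg PrimeSpectrum.asIdeal hq).symm)
    exact Set.mem_iUnion.2 ⟨R, Q, ⟨hQ, ⟨hQq.symm⟩⟩, hP⟩

theorem krull_main {ι : Type u} {val : ι → Valuation K ℤᵐ⁰}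
    (hF : IsKrullFamily (integralClosure A K) val) (C : Subalgebra A K) [Module.Finite A C]
    (hCS : C ≤ integralClosure A K)
    (huniq : ∀ (i : ι) (P' : Ideal (integralClosure A K)), P'.IsPrime →
      P'.comap (Subalgebra.inclusion hCS).toRingHom =
        Ideal.comap (Subalgebra.inclusion hCS).toRingHom (hF.cen i) → P' = hF.cen i) :
    (∀ (p : Ideal C) [p.IsPrime], p.height = 1 →
        ∃ V : ValuationSubring K, IsDiscreteValuationRing V ∧
          ∀ x : K, x ∈ V ↔ ∃ s : C, s ∉ p ∧ IsIntegral C ((s : K) * x)) ∧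
      (∀ x : K, x ∈ integralClosure A K ↔
        ∀ (p : Ideal C) [p.IsPrime], p.height = 1 → ∃ s : C, s ∉ p ∧ IsIntegral C ((s : K) * x)) ∧
      (∀ x : K, {p : Ideal C | p.IsPrime ∧ p.height = 1 ∧
        ¬ ∃ s : C, s ∉ p ∧ IsIntegral C ((s : K) * x)}.Finite) := by
  classical
  haveI : Algebra.IsIntegral A C := Algebra.IsIntegral.of_finite A C
  have hint : ∀ y : K, IsIntegral C y ↔ y ∈ integralClosure A K := fun y =>
    ⟨fun h => isIntegral_trans y h, fun h => IsIntegral.tower_top (A := C) h⟩
  letI : Algebra C (integralClosure A K) := (Subalgebra.inclusion hCS).toRingHom.toAlgebra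
  haveI : IsScalarTower A C (integralClosure A K) :=
    IsScalarTower.of_algebraMap_eq fun a => ((Subalgebra.inclusion hCS).commutes a).symm
  haveI : Algebra.IsIntegral C (integralClosure A K) :=
    ⟨fun s => IsIntegral.tower_top (R := A) (Algebra.IsIntegral.isIntegral s)⟩
  have hjinj : Function.Injective (algebraMap C (integralClosure A K)) := Subalgebra.inclusion_injective hCS
  have hdom : ∀ (P' : Ideal (integralClosure A K)), P'.IsPrime → P' ≠ ⊥ →
      P'.comap (algebraMap C (integralClosure A K)) ≠ ⊥ :=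
    fun P' _ hne e => hne (Ideal.eq_bot_of_comap_eq_bot e)
  -- height one primes of `C` are exactly the traces of the minimal centres
  have hOne : ∀ (p : Ideal C) [p.IsPrime], p.height = 1 → ∃ i : ι, hF.cen i ≠ ⊥ ∧
      Ideal.comap (algebraMap C (integralClosure A K)) (hF.cen i) = p ∧
      (∀ P : Ideal (integralClosure A K), P.IsPrime → P ≠ ⊥ → P ≤ hF.cen i → P = hF.cen i) := by
    intro p hp hh
    have hp0 : p ≠ ⊥ := Ideal.ne_bot_of_height_eq_one hh
    have hlow : ∀ q : Ideal C, q.IsPrime → q ≠ ⊥ → q ≤ p → q = p := by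
      intro q hq hq0 hqp
      by_contra hne
      have := (Ideal.height_le_iff (p := p) (n := 1)).1 (by rw [hh]; rfl) q hq (lt_of_le_of_ne hqp hne)
      exact hq0 (Ideal.height_eq_zero_iff_eq_bot.1 (ENat.lt_one_iff_eq_zero.1 this))
    obtain ⟨P', -, hP', hP'p⟩ := Ideal.exists_ideal_over_prime_of_isIntegral p
      (⊥ : Ideal (integralClosure A K))
      (le_of_eq_of_le (by rw [← RingHom.ker_eq_comap_bot, (RingHom.injective_iff_ker_eq_bot _).1 hjinj]) bot_le)
    haveI := hP'
    have hP'0 : P' ≠ ⊥ := fun e => hp0 (by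
      rw [← hP'p, e, ← RingHom.ker_eq_comap_bot, (RingHom.injective_iff_ker_eq_bot _).1 hjinj])
    obtain ⟨i, hi0, hile⟩ := hF.exists_cen_le hP'0
    have hip : Ideal.comap (algebraMap C (integralClosure A K)) (hF.cen i) = p :=
      hlow _ ((hF.cen_isPrime i).comap _) (hdom _ (hF.cen_isPrime i) hi0) (hP'p ▸ Ideal.comap_mono hile)
    refine ⟨i, hi0, hip, fun P hP hP0 hle => huniq i P hP ?_⟩
    haveI := hP
    exact (hlow _ (hP.comap _) (hdom _ hP hP0) (hip ▸ Ideal.comap_mono hle)).trans hip.symm
  have hchar : ∀ (p : Ideal C) [p.IsPrime], p.height = 1 → ∀ i : ι,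
      Ideal.comap (algebraMap C (integralClosure A K)) (hF.cen i) = p → hF.cen i ≠ ⊥ → ∀ x : K,
      (val i x ≤ 1 ↔ ∃ s : C, s ∉ p ∧ IsIntegral C ((s : K) * x)) := by
    intro p hp hh i hip hi0 x
    constructor
    · intro hx
      obtain ⟨i1, hi10, hi1p, hmin⟩ := hOne p hh
      have hii : hF.cen i = hF.cen i1 := huniq i1 _ (hF.cen_isPrime i) (hip.trans hi1p.symm)
      rw [← hii] at hmin
      rcases eq_or_ne x 0 with rfl | hx0
      · exact ⟨1, fun e => hp.ne_top ((Ideal.eq_top_iff_one _).2 e), by rw [mul_zero]; exact isIntegral_zero⟩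
      have hfin : {l | 1 < val l x}.Finite :=
        (hF.finite x hx0).subset fun l hl => ne_of_gt hl
      have hw : ∀ l, ∃ w : C, 1 < val l x →
          algebraMap C (integralClosure A K) w ∈ hF.cen l ∧ w ∉ p := by
        intro l
        by_cases hl : 1 < val l x
        · by_contra hh'
          push Not at hh'
          have hle : Ideal.comap (algebraMap C (integralClosure A K)) (hF.cen l) ≤ p :=
            fun w hw => (hh' w).2 hw
          have hl0 := hF.cen_ne_bot_of_one_lt hl
          have heq : Ideal.comap (algebraMap C (integralClosure A K)) (hF.cen l) = p := by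
            by_contra hne
            have := (Ideal.height_le_iff (p := p) (n := 1)).1 (by rw [hh]; rfl) _
              ((hF.cen_isPrime l).comap _) (lt_of_le_of_ne hle hne)
            exact hdom _ (hF.cen_isPrime l) hl0
              (Ideal.height_eq_zero_iff_eq_bot.1 (ENat.lt_one_iff_eq_zero.1 this))
          exact absurd hl (not_lt.2 (hF.le_one_of_cen_eq hi0 hmin
            (huniq i _ (hF.cen_isPrime l) (heq.trans hip.symm)) hx))
        · exact ⟨1, fun e => absurd e hl⟩
      choose w hw using hw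
      let W : C := ∏ l ∈ hfin.toFinset, w l
      have hWp : W ∉ p := fun hW => by
        obtain ⟨l, hl, hl'⟩ := (Ideal.IsPrime.prod_mem_iff (p := p)).1 hW
        exact (hw l (hfin.mem_toFinset.1 hl)).2 hl'
      have hWlt : ∀ l ∈ hfin.toFinset, val l (W : K) < 1 := fun l hl => by
        have h1 : algebraMap C (integralClosure A K) W ∈ hF.cen l := by
          rw [map_prod]
          exact (Ideal.IsPrime.prod_mem_iff (hp := hF.cen_isPrime l)).2 ⟨l, hl, (hw l (hfin.mem_toFinset.1 hl)).1⟩
        exact hF.mem_cen.1 h1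
      obtain ⟨n, hn⟩ := IsKrullFamily.exists_pow_mul_le_one (val := val) hWlt x
      refine ⟨W ^ n, fun e => hWp (hp.mem_of_pow_mem n e), (hint _).2 ((hF.mem_iff _).2 fun l => ?_)⟩
      push_cast
      by_cases hl : 1 < val l x
      · exact hn l (hfin.mem_toFinset.2 hl)
      · rw [map_mul, map_pow]
        exact mul_le_one' (pow_le_one₀ zero_le (hF.le_one l ⟨_, hCS W.2⟩)) (not_lt.1 hl)
    · rintro ⟨s, hs, hsx⟩
      have h1 : val i ((s : K) * x) ≤ 1 := (hF.mem_iff _).1 ((hint _).1 hsx) i
      have h2 : val i (s : K) = 1 :=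
        (hF.notMem_cen (a := algebraMap C (integralClosure A K) s)).1 fun e => hs (hip ▸ e)
      rwa [map_mul, h2, one_mul] at h1
  refine ⟨fun p hp hh => ?_, fun x => ⟨fun hx p hp hh => ?_, fun hx => ?_⟩, fun x => ?_⟩
  · obtain ⟨i, hi0, hip, -⟩ := hOne p hh
    refine ⟨(val i).valuationSubring, ?_, fun x => hchar p hh i hip hi0 x⟩
    obtain ⟨u, hu, hu0⟩ := Submodule.exists_mem_ne_zero_of_ne_bot hi0
    haveI : (val i).IsNontrivial := ⟨u.1, (Valuation.ne_zero_iff _).2 fun e => hu0 (Subtype.ext e),
      (hF.mem_cen.1 hu).ne⟩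
    infer_instance
  · refine ⟨1, fun e => hp.ne_top ((Ideal.eq_top_iff_one _).2 e), (hint _).2 ?_⟩
    rwa [OneMemClass.coe_one, one_mul]
  · refine hF.mem_of_minimal fun i hi0 hmin => ?_
    haveI := hF.cen_isPrime i
    set p := Ideal.comap (algebraMap C (integralClosure A K)) (hF.cen i) with hp
    have hh : p.height = 1 := by
      refine le_antisymm ((Ideal.height_le_iff (p := p) (n := 1)).2 fun q hq hqp => ?_) ?_
      · by_contra hq1
        rw [Nat.cast_one, not_lt] at hq1
        have hq0 : q ≠ ⊥ := fun e => by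
          rw [e, (Ideal.height_eq_zero_iff_eq_bot).2 rfl] at hq1; exact absurd hq1 (by norm_num)
        obtain ⟨P0, -, hP0, hP0q⟩ := Ideal.exists_ideal_over_prime_of_isIntegral q
          (⊥ : Ideal (integralClosure A K))
          (le_of_eq_of_le (by rw [← RingHom.ker_eq_comap_bot, (RingHom.injective_iff_ker_eq_bot _).1 hjinj]) bot_le)
        haveI := hP0
        obtain ⟨P1, hP01, hP1, hP1p⟩ := Ideal.exists_ideal_over_prime_of_isIntegral p P0 (hP0q ▸ hqp.le)
        have hP0ne : P0 ≠ ⊥ := fun e => hq0 (by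
          rw [← hP0q, e, ← RingHom.ker_eq_comap_bot, (RingHom.injective_iff_ker_eq_bot _).1 hjinj])
        have h1 := huniq i P1 hP1 hP1p
        rw [hmin P0 hP0 hP0ne (h1 ▸ hP01)] at hP0q
        exact hqp.ne hP0q.symm
      · rw [Order.one_le_iff_ne_zero, Ne, Ideal.height_eq_zero_iff_eq_bot]
        exact hdom _ (hF.cen_isPrime i) hi0
    exact (hchar p hh i rfl hi0 x).2 (hx p hh)
  · rcases eq_or_ne x 0 with rfl | hx0
    · refine Set.finite_empty.subset ?_
      rintro p ⟨hp, -, h⟩
      exact (h ⟨1, fun e => hp.ne_top ((Ideal.eq_top_iff_one _).2 e), by rw [mul_zero]; exact isIntegral_zero⟩).elim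
    refine ((hF.finite x hx0).image fun i => Ideal.comap (algebraMap C (integralClosure A K)) (hF.cen i)).subset ?_
    rintro p ⟨hp, hh, h⟩
    obtain ⟨i, hi0, hip, -⟩ := hOne p hh
    exact ⟨i, fun e => h ((hchar p hh i hip hi0 x).1 (le_of_eq e)), hip⟩

theorem mori (hB : IsNagata B) :
    ∃ C : Subalgebra A K, Module.Finite A C ∧
      (∀ (p : Ideal C) [p.IsPrime], p.height = 1 →
        ∃ V : ValuationSubring K, IsDiscreteValuationRing V ∧
          ∀ x : K, x ∈ V ↔ ∃ s : C, s ∉ p ∧ IsIntegral C ((s : K) * x)) ∧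
      (∀ x : K, x ∈ integralClosure A K ↔
        ∀ (p : Ideal C) [p.IsPrime], p.height = 1 → ∃ s : C, s ∉ p ∧ IsIntegral C ((s : K) * x)) ∧
      (∀ x : K, {p : Ideal C | p.IsPrime ∧ p.height = 1 ∧
        ¬ ∃ s : C, s ∉ p ∧ IsIntegral C ((s : K) * x)}.Finite) := by
  classical
  have hF := isKrullFamily (A := A) K hB
  obtain ⟨bad, hbad, hgood⟩ := exists_good_or_finite (A := A) K hB
  let T : Set (Ideal (integralClosure A K)) := ⋃ i ∈ bad,
    {P' | P'.IsPrime ∧ P'.comap (algebraMap A (integralClosure A K)) = cenA (A := A) K hB i}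
  have hT : T.Finite := hbad.biUnion fun i _ => by
    haveI := hF.cen_isPrime i
    exact finite_over K hB _
  have hz : ∀ P Q : Ideal (integralClosure A K), ∃ z : integralClosure A K, P ≠ Q → ¬(z ∈ P ↔ z ∈ Q) := by
    intro P Q
    by_cases h : P = Q
    · exact ⟨0, fun e => absurd h e⟩
    · by_contra hh
      push Not at hh
      exact h (Ideal.ext fun z => (hh z).2)
  choose z hz using hz
  let G : Finset K := (hT.toFinset ×ˢ hT.toFinset).image fun pq => (z pq.1 pq.2).1
  let C := Algebra.adjoin A (G : Set K)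
  have hG : ∀ x ∈ (G : Set K), IsIntegral A x := by
    intro x hx
    simp only [G, Finset.coe_image, Set.mem_image] at hx
    obtain ⟨pq, -, rfl⟩ := hx
    exact (z pq.1 pq.2).2
  have hCfin : Module.Finite A C := Module.Finite.iff_fg.2 (fg_adjoin_of_finite G.finite_toSet hG)
  have hCS : C ≤ integralClosure A K := Algebra.adjoin_le hG
  haveI := hCfin
  haveI : Algebra.IsIntegral A C := Algebra.IsIntegral.of_finite A C
  have hint : ∀ y : K, IsIntegral C y ↔ y ∈ integralClosure A K := fun y =>
    ⟨fun h => isIntegral_trans y h, fun h => IsIntegral.tower_top (A := C) h⟩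
  let j : C →ₐ[A] integralClosure A K := Subalgebra.inclusion hCS
  letI : Algebra C (integralClosure A K) := j.toRingHom.toAlgebra
  haveI : IsScalarTower A C (integralClosure A K) := IsScalarTower.of_algebraMap_eq fun a => (j.commutes a).symm
  haveI : Algebra.IsIntegral C (integralClosure A K) := ⟨fun s => IsIntegral.tower_top (R := A) (Algebra.IsIntegral.isIntegral s)⟩
  have hjinj : Function.Injective (algebraMap C (integralClosure A K)) := Subalgebra.inclusion_injective hCS
  have huniq : ∀ (i : Idx B) (P' : Ideal (integralClosure A K)), P'.IsPrime →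
      P'.comap (algebraMap C (integralClosure A K)) =
        Ideal.comap (algebraMap C (integralClosure A K)) (hF.cen i) → P' = hF.cen i := by
    intro i P' hP' he
    have heA : P'.comap (algebraMap A (integralClosure A K)) = cenA (A := A) K hB i := by
      rw [cenA, IsScalarTower.algebraMap_eq A C (integralClosure A K), ← Ideal.comap_comap, he, Ideal.comap_comap]
    by_cases hi : i ∈ bad
    · by_contra hne
      have h1 : P' ∈ T := Set.mem_biUnion hi ⟨hP', heA⟩
      have h2 : (hF.cen i : Ideal (integralClosure A K)) ∈ T := Set.mem_biUnion hi ⟨hF.cen_isPrime i, rfl⟩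
      have hmemC : (z P' (hF.cen i)).1 ∈ C := Algebra.subset_adjoin (by
        simp only [G, Finset.coe_image, Set.mem_image, Finset.mem_coe, Finset.mem_product]
        exact ⟨(P', hF.cen i), ⟨hT.mem_toFinset.2 h1, hT.mem_toFinset.2 h2⟩, rfl⟩)
      have := Ideal.ext_iff.1 he ⟨_, hmemC⟩
      exact hz P' (hF.cen i) hne this
    · exact hgood i hi P' hP' heA
  exact ⟨C, hCfin, krull_main K hF C hCS huniq⟩

end

theorem mori_local (A : Type u) [CommRing A] [IsDomain A] [IsNoetherianRing A] [IsLocalRing A]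
    (K : Type u) [Field K] [Algebra A K] [IsFractionRing A K] :
    ∃ C : Subalgebra A K, Module.Finite A C ∧
      (∀ (p : Ideal C) [p.IsPrime], p.height = 1 →
        ∃ V : ValuationSubring K, IsDiscreteValuationRing V ∧
          ∀ x : K, x ∈ V ↔ ∃ s : C, s ∉ p ∧ IsIntegral C ((s : K) * x)) ∧
      (∀ x : K, x ∈ integralClosure A K ↔
        ∀ (p : Ideal C) [p.IsPrime], p.height = 1 → ∃ s : C, s ∉ p ∧ IsIntegral C ((s : K) * x)) ∧
      (∀ x : K, {p : Ideal C | p.IsPrime ∧ p.height = 1 ∧
        ¬ ∃ s : C, s ∉ p ∧ IsIntegral C ((s : K) * x)}.Finite) := by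
  haveI : IsNoetherianRing (AdicCompletion (IsLocalRing.maximalIdeal A) A) :=
    H05EGA4.isNoetherianRing_adicCompletion A _
  haveI : Module.FaithfullyFlat A (AdicCompletion (IsLocalRing.maximalIdeal A) A) :=
    Module.FaithfullyFlat.of_flat_of_isLocalHom
  exact mori K (H05EGA4.isNagata_of_isAdicComplete (AdicCompletion (IsLocalRing.maximalIdeal A) A))

end Groth.Agent.H3CAlg.Mori
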