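import Groth.Agent.H1CAlg.Serre
import Mathlib.RingTheory.Valuation.Discrete.IsDiscreteValuationRing

/-! Valuations of a normal Noetherian domain at its height one primes. -/

set_option autoImplicit false
universe u

namespace Groth.Agent.H3CAlg.Mori

open scoped WithZero
open IsDedekindDomain

variable {N : Type u} [CommRing N] [IsDomain N] [IsNoetherianRing N] [IsIntegrallyClosed N]
  {L : Type u} [Field L] [Algebra N L] [IsFractionRing N L]

theorem exists_valuation (Q : Ideal N) [Q.IsPrime] (hQ : Q.height = 1) :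
    ∃ v : Valuation L ℤᵐ⁰, (∀ y : N, v (algebraMap N L y) ≤ 1) ∧
      (∀ y : N, v (algebraMap N L y) < 1 ↔ y ∈ Q) ∧
      (∀ x : L, v x ≤ 1 ↔ ∃ s : N, s ∉ Q ∧ ∃ y : N, algebraMap N L y = algebraMap N L s * x) := by
  set R := Localization.AtPrime Q with hR
  haveI : IsDomain R := IsLocalization.isDomain_of_le_nonZeroDivisors _ Q.primeCompl_le_nonZeroDivisors
  haveI : IsNoetherianRing R := IsLocalization.isNoetherianRing Q.primeCompl R inferInstance
  haveI : IsIntegrallyClosed R :=
    isIntegrallyClosed_of_isLocalization R Q.primeCompl Q.primeCompl_le_nonZeroDivisors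
  have hdim : ringKrullDim R = 1 := by
    rw [IsLocalization.AtPrime.ringKrullDim_eq_height Q, hQ]; rfl
  have hnf : ¬ IsField R := fun hf => by
    rw [ringKrullDim_eq_zero_of_isField hf] at hdim
    exact zero_ne_one hdim
  haveI : IsDiscreteValuationRing R := by
    haveI : IsRegularLocalRing R :=
      H1CAlg.isRegularLocalRing_of_isIntegrallyClosed (R := R) hdim.le
    refine ((IsDiscreteValuationRing.TFAE R hnf).out 0 4).2 ?_
    have h1 : ((IsLocalRing.maximalIdeal R).spanFinrank : WithBot ℕ∞) = 1 := by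
      rw [IsRegularLocalRing.spanFinrank_maximalIdeal, hdim]
    have h2 : (IsLocalRing.maximalIdeal R).spanFinrank ≤ 1 := by exact_mod_cast h1.le
    have hfg : (IsLocalRing.maximalIdeal R).FG := (IsLocalRing.maximalIdeal R).fg_of_isNoetherianRing
    obtain ⟨s, hs, hcard⟩ : ∃ s : Set R, Submodule.span R s = IsLocalRing.maximalIdeal R ∧ s.ncard ≤ 1 ∧ s.Finite :=
      ⟨(IsLocalRing.maximalIdeal R).generators, Submodule.span_generators _,
        (Submodule.FG.generators_ncard hfg).le.trans h2, Submodule.FG.finite_generators hfg⟩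
    rcases (Set.ncard_le_one_iff_eq hcard.2).1 hcard.1 with h0 | ⟨a, ha⟩
    · exact ⟨0, by rw [← hs, h0]; simp⟩
    · exact ⟨a, by rw [← hs, ha]⟩
  have hunit : ∀ s : Q.primeCompl, IsUnit (algebraMap N L s) := fun s =>
    isUnit_iff_ne_zero.2 fun e => s.2 (by
      rw [(IsFractionRing.injective N L) (e.trans (map_zero _).symm)]; exact Q.zero_mem)
  letI : Algebra R L := (IsLocalization.lift (M := Q.primeCompl) (S := R) hunit).toAlgebra
  haveI : IsScalarTower N R L := IsScalarTower.of_algebraMap_eq fun y =>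
    (IsLocalization.lift_eq hunit y).symm
  haveI : IsFractionRing R L :=
    IsFractionRing.isFractionRing_of_isDomain_of_isLocalization Q.primeCompl R L
  set m := IsDiscreteValuationRing.maximalIdeal R
  refine ⟨m.valuation L, fun y => ?_, fun y => ?_, fun x => ⟨fun hx => ?_, ?_⟩⟩
  · rw [IsScalarTower.algebraMap_apply N R L]; exact HeightOneSpectrum.valuation_le_one m _
  · rw [IsScalarTower.algebraMap_apply N R L, HeightOneSpectrum.valuation_lt_one_iff_mem]
    exact IsLocalization.AtPrime.to_map_mem_maximal_iff R Q y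
  · obtain ⟨a, ha⟩ := IsDiscreteValuationRing.exists_lift_of_le_one hx
    obtain ⟨⟨y, s⟩, hys⟩ := IsLocalization.surj Q.primeCompl a
    refine ⟨s.1, s.2, y, ?_⟩
    rw [← ha, IsScalarTower.algebraMap_apply N R L, ← hys, map_mul, ← IsScalarTower.algebraMap_apply,
      mul_comm]
  · rintro ⟨s, hs, y, hy⟩
    have h1 : m.valuation L (algebraMap N L s) = 1 := by
      rw [IsScalarTower.algebraMap_apply N R L, HeightOneSpectrum.valuation_eq_one_iff_notMem]
      exact fun h => hs ((IsLocalization.AtPrime.to_map_mem_maximal_iff R Q s).1 h)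
    have h2 : m.valuation L (algebraMap N L y) ≤ 1 := by
      rw [IsScalarTower.algebraMap_apply N R L]; exact HeightOneSpectrum.valuation_le_one m _
    rwa [hy, map_mul, h1, one_mul] at h2

/-- a nonzero element lies in finitely many height one primes -/
theorem finite_height_one {b : N} (hb : b ≠ 0) :
    {Q : Ideal N | (Q.IsPrime ∧ Q.height = 1) ∧ b ∈ Q}.Finite := by
  refine (Ideal.finite_minimalPrimes_of_isNoetherianRing N (Ideal.span {b})).subset ?_
  rintro Q ⟨⟨hQ, hh⟩, hbQ⟩
  refine ⟨⟨hQ, (Ideal.span_singleton_le_iff_mem _).2 hbQ⟩, fun P ⟨hP, hbP⟩ hPQ => ?_⟩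
  by_contra hne
  have hlt : P < Q := lt_of_le_not_ge hPQ hne
  haveI := hP
  have := (Ideal.height_le_iff (p := Q) (n := 1)).1 (by rw [hh]; rfl) P hP hlt
  have h0 : P = ⊥ := Ideal.height_eq_zero_iff_eq_bot.1 (ENat.lt_one_iff_eq_zero.1 this)
  exact hb (Ideal.mem_bot.1 (h0 ▸ hbP (Ideal.mem_span_singleton_self b)))

/-- `N` is the intersection of its localizations at height one primes -/
theorem mem_range_of_height_one {x : L}
    (hx : ∀ (Q : Ideal N) [Q.IsPrime], Q.height = 1 →
      ∃ s : N, s ∉ Q ∧ ∃ y : N, algebraMap N L y = algebraMap N L s * x) :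
    ∃ y : N, algebraMap N L y = x := by
  obtain ⟨a, b, hb, rfl⟩ := IsFractionRing.div_surjective N x
  have hb0 : b ≠ 0 := nonZeroDivisors.ne_zero hb
  have hbL : algebraMap N L b ≠ 0 := fun e => hb0 (IsFractionRing.injective N L (e.trans (map_zero _).symm))
  have hnor : ∀ (p : Ideal N) [p.IsPrime], IsDomain (Localization.AtPrime p) ∧
      IsIntegrallyClosed (Localization.AtPrime p) := fun p _ =>
    ⟨IsLocalization.isDomain_of_le_nonZeroDivisors _ p.primeCompl_le_nonZeroDivisors,
      isIntegrallyClosed_of_isLocalization _ p.primeCompl p.primeCompl_le_nonZeroDivisors⟩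
  have hS := ((H1CAlg.normal_iff_R1_S2 (R := N)).1 hnor).2
  let I : Ideal N := (Ideal.span {b}).colon {a}
  have hI : I = ⊤ := by
    by_contra hne
    obtain ⟨p, hp, hIp⟩ := Ideal.exists_le_maximal I hne
    haveI := hp.isPrime
    obtain ⟨s, hs, hsdvd⟩ := H1CAlg.exists_dvd_of_height_le_one (R := N) hS p a b
      (fun q hq _ hbq => by
        have hq' : q ∈ minimalPrimes N := H1CAlg.hasSk_one_self_iff.1
          (H4Depth.hasSk_mono (by norm_num) hS) q hq
        haveI : q.IsPrime := hq'.1.1
        have : q = ⊥ := Ideal.height_eq_zero_iff_eq_bot.1 (Ideal.height_eq_zero_iff.2 hq')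
        exact hb0 (Ideal.mem_bot.1 (this ▸ hbq)))
      (fun q _ _ hh => by
        rcases eq_or_ne q.height 0 with h0 | h0
        · rw [Ideal.height_eq_zero_iff_eq_bot] at h0
          exact ⟨b, by rw [h0]; exact fun e => hb0 (Ideal.mem_bot.1 e), dvd_mul_right b a⟩
        · obtain ⟨s, hs, y, hy⟩ := hx q (le_antisymm hh (Order.one_le_iff_ne_zero.2 h0))
          refine ⟨s, hs, y, IsFractionRing.injective N L ?_⟩
          rw [map_mul, map_mul, hy]
          field_simp)
    exact hs (hIp (Submodule.mem_colon_singleton.2 (Ideal.mem_span_singleton.2 hsdvd)))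
  have : (1 : N) ∈ I := hI ▸ Submodule.mem_top
  obtain ⟨y, hy⟩ := Ideal.mem_span_singleton.1 (Submodule.mem_colon_singleton.1 this)
  rw [one_smul] at hy
  exact ⟨y, by rw [hy, map_mul, mul_div_cancel_left₀ _ hbL]⟩

end Groth.Agent.H3CAlg.Mori
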