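import Groth.Agent.H3CAlg.Mori.Krull
import Groth.Agent.H3CAlg.Mori.NormalVal
import Groth.Prelude.Def_Found
import Mathlib.RingTheory.Flat.TorsionFree
import Mathlib.RingTheory.Spectrum.Prime.RingHom
import Mathlib.RingTheory.RingHom.FaithfullyFlat
import Mathlib.RingTheory.IntegralClosure.IntegralRestrict
import Mathlib.RingTheory.QuasiFinite.Basic

/-! The integral closure of a Noetherian domain `A` with a faithfully flat Nagata algebra `B`
as an intersection of discrete valuation rings. -/

set_option autoImplicit false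
set_option maxHeartbeats 1000000
universe u

open CAlg
open scoped WithZero TensorProduct

namespace Groth.Agent.H3CAlg.Mori

instance {B : Type u} [CommRing B] (P : minimalPrimes B) : P.1.IsPrime := P.2.1.1

variable {A : Type u} [CommRing A] [IsDomain A] (K : Type u) [Field K] [Algebra A K] [IsFractionRing A K]
  (B : Type u) [CommRing B] [Algebra A B] [IsNoetherianRing B] [Module.FaithfullyFlat A B]

abbrev L (P : minimalPrimes B) : Type u := FractionRing (B ⧸ P.1)

abbrev N (P : minimalPrimes B) : Subalgebra (B ⧸ P.1) (L B P) := integralClosure (B ⧸ P.1) (L B P)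

variable {B} in
theorem finite_N (hB : IsNagata B) (P : minimalPrimes B) : Module.Finite B (N B P) := by
  haveI : Module.Finite (B ⧸ P.1) (N B P) := hB.2 P.1 (L B P) (Module.Finite.self _)
  haveI : Module.Finite B (B ⧸ P.1) :=
    Module.Finite.of_surjective (Ideal.Quotient.mkₐ B P.1).toLinearMap Ideal.Quotient.mk_surjective
  exact Module.Finite.trans (B ⧸ P.1) (N B P)

variable {B} in
theorem noetherian_N (hB : IsNagata B) (P : minimalPrimes B) : IsNoetherianRing (N B P) := by
  haveI := finite_N hB P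
  exact IsNoetherianRing.of_finite B (N B P)

instance fracN (P : minimalPrimes B) : IsFractionRing (N B P) (L B P) :=
  integralClosure.isFractionRing_of_finite_extension (L B P) (L B P)

instance closedN (P : minimalPrimes B) : IsIntegrallyClosed (N B P) :=
  integralClosure.isIntegrallyClosedOfFiniteExtension (L B P)

omit [IsFractionRing A K] in
theorem algebraMap_L_ne_zero (P : minimalPrimes B) {a : A} (ha : a ≠ 0) :
    algebraMap A (L B P) a ≠ 0 := by
  intro e
  rw [IsScalarTower.algebraMap_apply A (B ⧸ P.1) (L B P)] at e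
  have e' : algebraMap A (B ⧸ P.1) a = 0 := IsFractionRing.injective _ _ (e.trans (map_zero _).symm)
  rw [IsScalarTower.algebraMap_apply A B (B ⧸ P.1), Ideal.Quotient.algebraMap_eq,
    Ideal.Quotient.eq_zero_iff_mem] at e'
  refine Set.disjoint_left.1 (Ideal.disjoint_nonZeroDivisors_of_mem_minimalPrimes P.2) e' ?_
  rw [SetLike.mem_coe, mem_nonZeroDivisors_iff_right]
  intro x hx
  rw [mul_comm, ← Algebra.smul_def] at hx
  exact (smul_eq_zero.1 hx).resolve_left ha

noncomputable def toL (P : minimalPrimes B) : K →+* L B P :=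
  IsFractionRing.lift (g := algebraMap A (L B P))
    ((injective_iff_map_eq_zero _).2 fun a ha => by
      by_contra h; exact algebraMap_L_ne_zero (A := A) B P h ha)

theorem toL_algebraMap (P : minimalPrimes B) (a : A) :
    toL (A := A) K B P (algebraMap A K a) = algebraMap A (L B P) a :=
  IsFractionRing.lift_algebraMap _ a

noncomputable def psi (P : minimalPrimes B) : K ⊗[A] B →ₐ[A] L B P :=
  Algebra.TensorProduct.lift ⟨toL (A := A) K B P, toL_algebraMap K B P⟩ (IsScalarTower.toAlgHom A B (L B P))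
    fun _ _ => Commute.all _ _

theorem psi_tmul (P : minimalPrimes B) (x : K) (b : B) :
    psi (A := A) K B P (x ⊗ₜ b) = toL (A := A) K B P x * algebraMap B (L B P) b :=
  Algebra.TensorProduct.lift_tmul _ _ _ _ _

omit [IsNoetherianRing B] [Module.FaithfullyFlat A B] in
theorem exists_den (t : K ⊗[A] B) : ∃ (a : A) (h : B), a ∈ nonZeroDivisors A ∧ a • t = 1 ⊗ₜ h := by
  induction t using TensorProduct.induction_on with
  | zero => exact ⟨1, 0, one_mem _, by simp⟩
  | tmul x h =>
    obtain ⟨c, b, hb, rfl⟩ := IsFractionRing.div_surjective A x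
    refine ⟨b, c • h, hb, ?_⟩
    rw [TensorProduct.smul_tmul', TensorProduct.tmul_smul, TensorProduct.smul_tmul',
      Algebra.smul_def, Algebra.smul_def, mul_one, mul_div_cancel₀ _ (IsFractionRing.to_map_ne_zero_of_mem_nonZeroDivisors hb)]
  | add t₁ t₂ h₁ h₂ =>
    obtain ⟨a₁, b₁, ha₁, e₁⟩ := h₁
    obtain ⟨a₂, b₂, ha₂, e₂⟩ := h₂
    refine ⟨a₁ * a₂, a₂ • b₁ + a₁ • b₂, mul_mem ha₁ ha₂, ?_⟩
    rw [smul_add, TensorProduct.tmul_add, TensorProduct.tmul_smul, TensorProduct.tmul_smul, ← e₁, ← e₂,
      smul_smul, smul_smul, mul_comm a₂ a₁]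

theorem nilpotent_of_forall {t : K ⊗[A] B} (ht : ∀ P, psi (A := A) K B P t = 0) : IsNilpotent t := by
  obtain ⟨a, h, ha, e⟩ := exists_den K B t
  have hh : h ∈ nilradical B := by
    rw [nilradical, Ideal.radical_eq_sInf, Ideal.mem_sInf]
    rintro J ⟨-, hJ⟩
    haveI := hJ
    obtain ⟨p, hp, hpJ⟩ := Ideal.exists_minimalPrimes_le (I := (⊥ : Ideal B)) (J := J) bot_le
    refine hpJ ?_
    have := congr_arg (psi (A := A) K B ⟨p, hp⟩) e
    rw [map_smul, ht, smul_zero, psi_tmul, map_one, one_mul,
      IsScalarTower.algebraMap_apply B (B ⧸ p) (L B ⟨p, hp⟩)] at this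
    have h' : algebraMap B (B ⧸ p) h = 0 :=
      IsFractionRing.injective (B ⧸ p) (L B ⟨p, hp⟩) (this.symm.trans (map_zero _).symm)
    exact Ideal.Quotient.eq_zero_iff_mem.1 h'
  obtain ⟨n, hn⟩ := hh
  refine ⟨n, ?_⟩
  have h1 := congr_arg (fun s => s ^ n) e
  simp only [Algebra.TensorProduct.tmul_pow, one_pow] at h1
  erw [hn, TensorProduct.tmul_zero] at h1
  rw [Algebra.smul_def, mul_pow] at h1
  have hu : IsUnit (algebraMap A (K ⊗[A] B) a) := by
    rw [IsScalarTower.algebraMap_apply A K (K ⊗[A] B)]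
    exact (IsLocalization.map_units K (⟨a, ha⟩ : nonZeroDivisors A)).map _
  exact ((hu.pow n).mul_right_eq_zero).1 h1

/-- elements of `K` integral over `A` are detected in the normalizations of `B` -/
theorem isIntegral_iff (x : K) : IsIntegral A x ↔ ∀ P, toL (A := A) K B P x ∈ N B P := by
  classical
  constructor
  · intro hx P
    have : IsIntegral A (toL (A := A) K B P x) := hx.map (⟨toL (A := A) K B P, toL_algebraMap K B P⟩ : K →ₐ[A] L B P)
    exact IsIntegral.tower_top this
  · intro hx
    have hex : ∀ P : minimalPrimes B, ∃ f : Polynomial B, f.Monic ∧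
        Polynomial.aeval (toL (A := A) K B P x) f = 0 := fun P => by
      have h1 : IsIntegral (B ⧸ P.1) (toL (A := A) K B P x) := hx P
      haveI : Algebra.IsIntegral B (B ⧸ P.1) := Algebra.IsIntegral.of_surjective (Ideal.Quotient.mkₐ B P.1) Ideal.Quotient.mk_surjective
      exact isIntegral_trans (R := B) _ h1
    choose f hf hf0 using hex
    haveI : Fintype (minimalPrimes B) := (minimalPrimes.finite_of_isNoetherianRing B).fintype
    let F := ∏ P, f P
    have hF : F.Monic := Polynomial.monic_prod_of_monic _ _ fun P _ => hf P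
    let j : B →+* K ⊗[A] B := Algebra.TensorProduct.includeRight.toRingHom
    let t : K ⊗[A] B := x ⊗ₜ 1
    have hnil : IsNilpotent (F.eval₂ j t) := by
      refine nilpotent_of_forall K B fun P => ?_
      have e1 : psi (A := A) K B P t = toL (A := A) K B P x := by rw [psi_tmul, map_one, mul_one]
      have e2 : (psi (A := A) K B P).toRingHom.comp j = algebraMap B (L B P) := RingHom.ext fun b => by
        show psi (A := A) K B P (1 ⊗ₜ b) = _
        rw [psi_tmul, map_one, one_mul]
      show (psi (A := A) K B P).toRingHom (F.eval₂ j t) = 0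
      rw [Polynomial.hom_eval₂, e2]
      show F.eval₂ _ (psi (A := A) K B P t) = 0
      rw [e1, Polynomial.eval₂_finsetProd]
      exact Finset.prod_eq_zero (Finset.mem_univ P) (hf0 P)
    obtain ⟨e, he⟩ := hnil
    set G := F ^ e with hG
    have hGm : G.Monic := hF.pow e
    have hG0 : G.eval₂ j t = 0 := by rw [hG, Polynomial.eval₂_pow, he]
    obtain ⟨a, b, hb, rfl⟩ := IsFractionRing.div_surjective A x
    have hbK := IsFractionRing.to_map_ne_zero_of_mem_nonZeroDivisors (K := K) hb
    set M := G.natDegree with hM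
    have key : (G.scaleRoots (algebraMap A B b)).eval₂ j (j (algebraMap A B a)) = 0 := by
      have : j (algebraMap A B a) = j (algebraMap A B b) * t := by
        show (1 : K) ⊗ₜ[A] algebraMap A B a = (1 ⊗ₜ algebraMap A B b) * (_ ⊗ₜ 1)
        rw [Algebra.TensorProduct.tmul_mul_tmul, one_mul, mul_one, Algebra.algebraMap_eq_smul_one (A := B),
          Algebra.algebraMap_eq_smul_one (A := B), ← TensorProduct.smul_tmul, ← TensorProduct.smul_tmul,
          Algebra.smul_def, Algebra.smul_def, mul_one, mul_div_cancel₀ _ hbK]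
      rw [this, Polynomial.scaleRoots_eval₂_mul, hG0, mul_zero]
    have hjinj : Function.Injective j := by
      show Function.Injective (Algebra.TensorProduct.includeRight : B →ₐ[A] K ⊗[A] B)
      exact Algebra.TensorProduct.includeRight_injective (IsFractionRing.injective A K)
    rw [Polynomial.eval₂_at_apply] at key
    have key' := hjinj (key.trans (map_zero j).symm)
    rw [Polynomial.eval_eq_sum_range, Polynomial.natDegree_scaleRoots, Finset.sum_range_succ,
      Polynomial.coeff_scaleRoots, hGm.coeff_natDegree, Nat.sub_self, pow_zero, mul_one, one_mul,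
      add_eq_zero_iff_eq_neg'] at key'
    let I : Ideal A := Ideal.span (Set.range fun i : Fin M => a ^ (i : ℕ) * b ^ (M - i))
    have hmem : algebraMap A B (a ^ M) ∈ I.map (algebraMap A B) := by
      rw [map_pow, hM, key']
      refine neg_mem (Ideal.sum_mem _ fun i hi => ?_)
      rw [Polynomial.coeff_scaleRoots, ← map_pow, ← map_pow, mul_assoc, ← map_mul,
        mul_comm (b ^ (G.natDegree - i))]
      exact Ideal.mul_mem_left _ _ (Ideal.mem_map_of_mem _ (Ideal.subset_span ⟨⟨i, Finset.mem_range.1 hi⟩, rfl⟩))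
    rw [← Ideal.mem_comap, Ideal.comap_map_eq_self_of_faithfullyFlat,
      Ideal.mem_span_range_iff_exists_fun] at hmem
    obtain ⟨c, hc⟩ := hmem
    refine ⟨Polynomial.X ^ M - ∑ i : Fin M, Polynomial.C (c i) * Polynomial.X ^ (i : ℕ),
      Polynomial.monic_X_pow_sub (Polynomial.degree_sum_fin_lt c), ?_⟩
    rw [← Polynomial.aeval_def, map_sub, map_pow, Polynomial.aeval_X, map_sum, sub_eq_zero]
    simp only [map_mul, Polynomial.aeval_C, map_pow, Polynomial.aeval_X]
    have hc' := congr_arg (algebraMap A K) hc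
    simp only [map_sum, map_mul, map_pow] at hc'
    rw [div_pow, div_eq_iff (pow_ne_zero _ hbK), ← hc', Finset.sum_mul]
    refine Finset.sum_congr rfl fun i _ => ?_
    have hexp : b ^ (i : ℕ) * b ^ (M - i) = b ^ M := by rw [← pow_add, Nat.add_sub_cancel' i.2.le]
    rw [← map_pow _ b M, ← hexp, map_mul, map_pow, map_pow, div_pow]
    field_simp

/-- the index set: height one primes of the normalizations -/
abbrev Idx : Type u := Σ P : minimalPrimes B, {Q : Ideal (N B P) // Q.IsPrime ∧ Q.height = 1}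

variable {B}

theorem exists_val (hB : IsNagata B) (i : Idx B) :
    ∃ v : Valuation (L B i.1) ℤᵐ⁰, (∀ y : N B i.1, v y.1 ≤ 1) ∧
      (∀ y : N B i.1, v y.1 < 1 ↔ y ∈ i.2.1) ∧
      (∀ x, v x ≤ 1 ↔ ∃ s : N B i.1, s ∉ i.2.1 ∧ ∃ y : N B i.1, y.1 = s.1 * x) := by
  haveI := noetherian_N hB i.1
  haveI := i.2.2.1
  exact exists_valuation i.2.1 i.2.2.2

noncomputable def valN (hB : IsNagata B) (i : Idx B) : Valuation (L B i.1) ℤᵐ⁰ :=
  (exists_val hB i).choose

theorem valN_le_one (hB : IsNagata B) (i : Idx B) (y : N B i.1) : valN hB i y.1 ≤ 1 :=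
  (exists_val hB i).choose_spec.1 y

theorem valN_lt_one_iff (hB : IsNagata B) (i : Idx B) (y : N B i.1) : valN hB i y.1 < 1 ↔ y ∈ i.2.1 :=
  (exists_val hB i).choose_spec.2.1 y

theorem valN_le_one_iff (hB : IsNagata B) (i : Idx B) (x : L B i.1) :
    valN hB i x ≤ 1 ↔ ∃ s : N B i.1, s ∉ i.2.1 ∧ ∃ y : N B i.1, y.1 = s.1 * x :=
  (exists_val hB i).choose_spec.2.2 x

theorem valN_eq_one (hB : IsNagata B) (i : Idx B) (y : N B i.1) (hy : y ∉ i.2.1) : valN hB i y.1 = 1 :=
  le_antisymm (valN_le_one hB i y) (not_lt.1 fun hl => hy ((valN_lt_one_iff hB i y).1 hl))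

attribute [irreducible] valN

theorem finite_valN_ne_one (hB : IsNagata B) (P : minimalPrimes B) (x : L B P) (hx : x ≠ 0) :
    {Q | valN hB ⟨P, Q⟩ x ≠ 1}.Finite := by
  haveI := noetherian_N hB P
  obtain ⟨a, b, hb, hab⟩ := IsFractionRing.div_surjective (N B P) x
  have ha : a ≠ 0 := fun e => hx (by rw [← hab, e, map_zero, zero_div])
  refine (((finite_height_one ha).union (finite_height_one (nonZeroDivisors.ne_zero hb))).preimage
    Subtype.val_injective.injOn).subset fun Q hQ => ?_
  by_contra hcon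
  rw [Set.mem_preimage, Set.mem_union, not_or] at hcon
  apply hQ
  rw [← hab, map_div₀]
  show valN hB ⟨P, Q⟩ a.1 / valN hB ⟨P, Q⟩ b.1 = 1
  rw [valN_eq_one hB ⟨P, Q⟩ a fun h => hcon.1 ⟨Q.2, h⟩,
    valN_eq_one hB ⟨P, Q⟩ b fun h => hcon.2 ⟨Q.2, h⟩, div_one]

noncomputable def val (hB : IsNagata B) (i : Idx B) : Valuation K ℤᵐ⁰ :=
  (valN hB i).comap (toL (A := A) K B i.1)

theorem val_apply (hB : IsNagata B) (i : Idx B) (x : K) :
    val (A := A) K hB i x = valN hB i (toL (A := A) K B i.1 x) := rfl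

theorem isKrullFamily (hB : IsNagata B) :
    IsKrullFamily (integralClosure A K) (val (A := A) K hB) := by
  refine ⟨fun x => ?_, fun x hx => ?_, fun x => ?_⟩
  · rw [mem_integralClosure_iff, isIntegral_iff K B]
    refine ⟨fun h i => by rw [val_apply]; exact valN_le_one hB i ⟨_, h i.1⟩, fun h P => ?_⟩
    haveI := noetherian_N hB P
    obtain ⟨y, hy⟩ := mem_range_of_height_one (N := N B P) (L := L B P) (x := toL (A := A) K B P x)
      fun Q hQp hQ => (valN_le_one_iff hB ⟨P, Q, hQp, hQ⟩ _).1 (h ⟨P, Q, hQp, hQ⟩)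
    rw [← hy]; exact y.2
  · haveI : Finite (minimalPrimes B) := (minimalPrimes.finite_of_isNoetherianRing B).to_subtype
    have hsub : {i : Idx B | val (A := A) K hB i x ≠ 1} ⊆
        ⋃ P : minimalPrimes B, (fun Q => (⟨P, Q⟩ : Idx B)) '' {Q | valN hB ⟨P, Q⟩ (toL (A := A) K B P x) ≠ 1} :=
      fun i hi => Set.mem_iUnion.2 ⟨i.1, i.2, hi, rfl⟩
    refine (Set.finite_iUnion fun P => Set.Finite.image _ ?_).subset hsub
    exact finite_valN_ne_one hB P _ fun e => hx ((map_eq_zero _).1 e)
  · obtain ⟨a, b, hb, rfl⟩ := IsFractionRing.div_surjective A x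
    have hb0 := IsFractionRing.to_map_ne_zero_of_mem_nonZeroDivisors (K := K) hb
    refine ⟨algebraMap A K b, Subalgebra.algebraMap_mem _ b, hb0, ?_⟩
    rw [mul_div_cancel₀ _ hb0]
    exact Subalgebra.algebraMap_mem _ a

end Groth.Agent.H3CAlg.Mori
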