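import Mathlib.RingTheory.Valuation.Basic
import Mathlib.Algebra.GroupWithZero.WithZero
import Mathlib.RingTheory.Ideal.Maximal
import Mathlib.RingTheory.Ideal.Maps
import Mathlib.Data.Fintype.Lattice
import Mathlib.Algebra.Order.Group.Int
import Mathlib.Algebra.Order.GroupWithZero.Canonical
import Mathlib.Algebra.Algebra.Rat
import Mathlib.Algebra.Algebra.Subalgebra.Basic

/-! Intersections of finite-character families of rank one valuations. -/

set_option autoImplicit false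
universe u v

namespace Groth.Agent.H3CAlg.Mori

open scoped WithZero

variable {A : Type u} [CommRing A] {K : Type u} [Field K] [Algebra A K] (S : Subalgebra A K) {ι : Type v} (val : ι → Valuation K ℤᵐ⁰)

structure IsKrullFamily : Prop where
  mem_iff : ∀ x, x ∈ S ↔ ∀ i, val i x ≤ 1
  finite : ∀ x, x ≠ 0 → {i | val i x ≠ 1}.Finite
  frac : ∀ x, ∃ b ∈ S, b ≠ 0 ∧ b * x ∈ S

variable {S val}

namespace IsKrullFamily

variable (h : IsKrullFamily S val)
include h

theorem le_one (i : ι) (a : S) : val i (a : K) ≤ 1 := (h.mem_iff _).1 a.2 i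

/-- centre of `val i` on `S` -/
def cen (i : ι) : Ideal S where
  carrier := {a | val i (a : K) < 1}
  add_mem' {a b} ha hb := by
    show val i ((a : K) + b) < 1
    exact (Valuation.map_add _ _ _).trans_lt (max_lt ha hb)
  zero_mem' := by simp
  smul_mem' c a ha := by
    have ha' : val i (a : K) < 1 := ha
    show val i ((c : K) * a) < 1
    rw [map_mul]
    exact (mul_le_mul_left (h.le_one i c) _).trans_lt (by simpa using ha')

theorem mem_cen {i : ι} {a : S} : a ∈ h.cen i ↔ val i (a : K) < 1 := Iff.rfl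

theorem notMem_cen {i : ι} {a : S} : a ∉ h.cen i ↔ val i (a : K) = 1 := by
  rw [mem_cen, not_lt]
  exact ⟨fun ha => le_antisymm (h.le_one i a) ha, fun ha => ha.ge⟩

theorem cen_isPrime (i : ι) : (h.cen i).IsPrime := by
  refine ⟨fun hh => ?_, fun {a b} hab => ?_⟩
  · have : (1 : S) ∈ h.cen i := hh ▸ Submodule.mem_top
    rw [mem_cen] at this; simp at this
  · by_contra hh
    rw [not_or, notMem_cen, notMem_cen] at hh
    rw [mem_cen, MulMemClass.coe_mul, map_mul, hh.1, hh.2, one_mul] at hab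
    exact lt_irrefl _ hab

theorem cen_ne_bot_of_one_lt {i : ι} {x : K} (hx : 1 < val i x) : h.cen i ≠ ⊥ := by
  intro hbot
  obtain ⟨b, hb, hb0, hbx⟩ := h.frac x
  have hv : val i b = 1 := (h.notMem_cen (a := ⟨b, hb⟩)).1 (by
    rw [hbot]; exact fun e => hb0 (congr_arg Subtype.val (Ideal.mem_bot.1 e)))
  have := h.le_one i ⟨b * x, hbx⟩
  rw [map_mul, hv, one_mul] at this
  exact absurd hx (not_lt.2 this)

omit h in
theorem log_pow_mul_pow (i : ι) {x u : K} (hx : val i x ≠ 0) (hu : val i u ≠ 0) (a b : ℕ) :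
    WithZero.log (val i (x ^ a * u ^ b)) = a * WithZero.log (val i x) + b * WithZero.log (val i u) := by
  rw [map_mul, map_pow, map_pow, WithZero.log_mul (pow_ne_zero _ hx) (pow_ne_zero _ hu),
    WithZero.log_pow, WithZero.log_pow, nsmul_eq_mul, nsmul_eq_mul]

omit h in
/-- high powers of an element of value `< 1` make every finite family of values small -/
theorem exists_pow_mul_le_one {G : Finset ι} {w : K} (hw : ∀ i ∈ G, val i w < 1) (x : K) :
    ∃ n : ℕ, ∀ i ∈ G, val i (w ^ n * x) ≤ 1 := by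
  rcases eq_or_ne x 0 with rfl | hx
  · exact ⟨0, by simp⟩
  rcases eq_or_ne w 0 with rfl | hw0
  · exact ⟨1, by simp⟩
  refine ⟨G.sup fun i => (WithZero.log (val i x)).toNat, fun i hi => ?_⟩
  set n := G.sup fun i => (WithZero.log (val i x)).toNat with hn
  have h0 : val i x ≠ 0 := (Valuation.ne_zero_iff _).2 hx
  have hw' : val i w ≠ 0 := (Valuation.ne_zero_iff _).2 hw0
  have hne : val i (w ^ n * x) ≠ 0 := (Valuation.ne_zero_iff _).2 (mul_ne_zero (pow_ne_zero _ hw0) hx)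
  have hl : WithZero.log (val i w) ≤ -1 := by
    have := (WithZero.log_lt_log hw' one_ne_zero).2 (hw i hi)
    rw [WithZero.log_one] at this; omega
  have hle : (WithZero.log (val i x)).toNat ≤ n :=
    Finset.le_sup (f := fun i => (WithZero.log (val i x)).toNat) hi
  rw [← WithZero.log_le_log hne one_ne_zero, WithZero.log_one]
  have e := log_pow_mul_pow (val := val) i hw' h0 n 1
  rw [pow_one] at e
  rw [e]
  have h1 : (n : ℤ) * WithZero.log (val i w) ≤ (n : ℤ) * (-1) :=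
    mul_le_mul_of_nonneg_left hl (Int.natCast_nonneg n)
  have h2 : WithZero.log (val i x) ≤ (n : ℤ) :=
    (Int.self_le_toNat _).trans (by exact_mod_cast hle)
  push_cast at h1 ⊢
  linarith

/-- every nonzero prime contains a nonzero centre -/
theorem exists_cen_le {P : Ideal S} [P.IsPrime] (hP : P ≠ ⊥) :
    ∃ i, h.cen i ≠ ⊥ ∧ h.cen i ≤ P := by
  classical
  by_contra hh
  push Not at hh
  obtain ⟨y, hy, hy0⟩ := Submodule.exists_mem_ne_zero_of_ne_bot hP
  have hy0' : (y : K) ≠ 0 := fun e => hy0 (Subtype.ext e)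
  have hfin : {i | val i (y : K) < 1}.Finite := (h.finite _ hy0').subset fun i hi => ne_of_lt hi
  have hw : ∀ i, ∃ w : S, val i (y : K) < 1 → w ∈ h.cen i ∧ w ∉ P := by
    intro i
    by_cases hi : val i (y : K) < 1
    · have hne : h.cen i ≠ ⊥ := fun e => hy0 (Ideal.mem_bot.1 (e ▸ (h.mem_cen.2 hi)))
      obtain ⟨w, hw1, hw2⟩ := SetLike.not_le_iff_exists.1 (hh i hne)
      exact ⟨w, fun _ => ⟨hw1, hw2⟩⟩
    · exact ⟨1, fun e => absurd e hi⟩
  choose w hw using hw
  let W : S := ∏ i ∈ hfin.toFinset, w i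
  have hWP : W ∉ P := fun hW => by
    obtain ⟨i, hi, hi'⟩ := (Ideal.IsPrime.prod_mem_iff (p := P)).1 hW
    exact (hw i (hfin.mem_toFinset.1 hi)).2 hi'
  have hWlt : ∀ i ∈ hfin.toFinset, val i (W : K) < 1 := fun i hi =>
    (h.mem_cen).1 ((Ideal.IsPrime.prod_mem_iff (hp := h.cen_isPrime i)).2
      ⟨i, hi, (hw i (hfin.mem_toFinset.1 hi)).1⟩)
  obtain ⟨n, hn⟩ := exists_pow_mul_le_one (val := val) hWlt (y : K)⁻¹
  have hmem : (W : K) ^ n * (y : K)⁻¹ ∈ S := by
    refine (h.mem_iff _).2 fun i => ?_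
    by_cases hi : val i (y : K) < 1
    · exact hn i (hfin.mem_toFinset.2 hi)
    · have : val i (y : K) = 1 := le_antisymm (h.le_one i y) (not_lt.1 hi)
      rw [map_mul, map_inv₀, this, inv_one, mul_one, map_pow]
      exact pow_le_one₀ zero_le (h.le_one i W)
  have : W ^ n = ⟨_, hmem⟩ * y := Subtype.ext (by
    simp [mul_assoc, inv_mul_cancel₀ hy0'])
  exact hWP (Ideal.IsPrime.mem_of_pow_mem inferInstance n (this ▸ Ideal.mul_mem_left _ _ hy))

/-- the balancing trick -/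
theorem exists_balanced {G : Finset ι} (hG : G.Nonempty) {x u : K} (hu : u ∈ S) (hu0 : u ≠ 0)
    (hxG : ∀ i ∈ G, 1 < val i x) (huG : ∀ i ∈ G, val i u < 1) (hout : ∀ i ∉ G, val i x ≤ 1) :
    ∃ i ∈ G, ∃ a b : ℕ, 0 < a ∧ 0 < b ∧ x ^ a * u ^ b ∈ S ∧ val i (x ^ a * u ^ b) = 1 := by
  have hx0 : x ≠ 0 := fun e => by
    obtain ⟨i, hi⟩ := hG
    have := hxG i hi; rw [e, map_zero] at this; exact not_lt_zero this
  have hvx : ∀ i, val i x ≠ 0 := fun i => (Valuation.ne_zero_iff _).2 hx0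
  have hvu : ∀ i, val i u ≠ 0 := fun i => (Valuation.ne_zero_iff _).2 hu0
  have hα : ∀ i ∈ G, 0 < WithZero.log (val i x) := fun i hi => by
    have := (WithZero.log_lt_log one_ne_zero (hvx i)).2 (hxG i hi)
    rwa [WithZero.log_one] at this
  have hβ : ∀ i ∈ G, WithZero.log (val i u) < 0 := fun i hi => by
    have := (WithZero.log_lt_log (hvu i) one_ne_zero).2 (huG i hi)
    rwa [WithZero.log_one] at this
  obtain ⟨i, hi, hmax⟩ := G.exists_max_image
    (fun j => ((WithZero.log (val j x) : ℤ) : ℚ) / ((-WithZero.log (val j u) : ℤ) : ℚ)) hG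
  refine ⟨i, hi, (-WithZero.log (val i u)).toNat, (WithZero.log (val i x)).toNat,
    by have := hβ i hi; omega, by have := hα i hi; omega, ?_, ?_⟩
  · refine (h.mem_iff _).2 fun j => ?_
    by_cases hj : j ∈ G
    · rw [← WithZero.log_le_log ((Valuation.ne_zero_iff _).2 (mul_ne_zero (pow_ne_zero _ hx0)
        (pow_ne_zero _ hu0))) one_ne_zero, WithZero.log_one, log_pow_mul_pow j (hvx j) (hvu j),
        Int.toNat_of_nonneg (neg_nonneg.2 (hβ i hi).le), Int.toNat_of_nonneg (hα i hi).le]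
      have := hmax j hj
      rw [div_le_div_iff₀ (by exact_mod_cast neg_pos.2 (hβ j hj))
        (by exact_mod_cast neg_pos.2 (hβ i hi))] at this
      have h' : WithZero.log (val j x) * (-WithZero.log (val i u)) ≤
          WithZero.log (val i x) * (-WithZero.log (val j u)) := by exact_mod_cast this
      linarith
    · rw [map_mul, map_pow, map_pow]
      exact mul_le_one' (pow_le_one₀ zero_le (hout j hj)) (pow_le_one₀ zero_le ((h.mem_iff _).1 hu j))
  · have h0 : WithZero.log (val i (x ^ (-WithZero.log (val i u)).toNat *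
        u ^ (WithZero.log (val i x)).toNat)) = 0 := by
      rw [log_pow_mul_pow i (hvx i) (hvu i), Int.toNat_of_nonneg (neg_nonneg.2 (hβ i hi).le),
        Int.toNat_of_nonneg (hα i hi).le]
      ring
    have hne : val i (x ^ (-WithZero.log (val i u)).toNat * u ^ (WithZero.log (val i x)).toNat) ≠ 0 :=
      (Valuation.ne_zero_iff _).2 (mul_ne_zero (pow_ne_zero _ hx0) (pow_ne_zero _ hu0))
    rw [← WithZero.exp_log hne, h0, WithZero.exp_zero]

/-- there are no bad valuations: `S` is cut out by the minimal centres -/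
theorem mem_of_minimal {x : K}
    (hx : ∀ i, h.cen i ≠ ⊥ → (∀ P : Ideal S, P.IsPrime → P ≠ ⊥ → P ≤ h.cen i → P = h.cen i) →
      val i x ≤ 1) : x ∈ S := by
  classical
  by_contra hxS
  have hx0 : x ≠ 0 := fun e => hxS (e ▸ S.zero_mem)
  have hfin : {i | 1 < val i x}.Finite := (h.finite x hx0).subset fun i hi => ne_of_gt hi
  set B := hfin.toFinset with hB
  have hBne : B.Nonempty := by
    by_contra hh
    rw [Finset.not_nonempty_iff_eq_empty] at hh
    refine hxS ((h.mem_iff _).2 fun i => not_lt.1 fun hi => ?_)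
    have : i ∈ B := hfin.mem_toFinset.2 hi
    rw [hh] at this; exact absurd this (Finset.notMem_empty _)
  obtain ⟨P, hPmem, hPmin⟩ := (B.image h.cen).exists_minimal (hBne.image _)
  obtain ⟨i₀, hi₀, rfl⟩ := Finset.mem_image.1 hPmem
  haveI hPpr : (h.cen i₀).IsPrime := h.cen_isPrime i₀
  have hPne : h.cen i₀ ≠ ⊥ := h.cen_ne_bot_of_one_lt (hfin.mem_toFinset.1 hi₀)
  obtain ⟨P', hP'p, hP'0, hP'le, hP'ne⟩ : ∃ P' : Ideal S, P'.IsPrime ∧ P' ≠ ⊥ ∧ P' ≤ h.cen i₀ ∧
      P' ≠ h.cen i₀ := by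
    by_contra hh
    push Not at hh
    exact absurd (hfin.mem_toFinset.1 hi₀) (not_lt.2 (hx i₀ hPne fun P a b c => hh P a b c))
  haveI := hP'p
  obtain ⟨k, hk0, hkle⟩ := h.exists_cen_le hP'0
  have hklt : h.cen k < h.cen i₀ := lt_of_le_of_lt hkle (lt_of_le_of_ne hP'le hP'ne)
  have hkB : k ∉ B := fun hk =>
    absurd (hPmin (Finset.mem_image_of_mem _ hk) hklt.le) (not_le_of_gt hklt)
  set G := B.filter fun j => h.cen j = h.cen i₀ with hG
  have hw : ∀ j, ∃ w : S, j ∈ B → j ∉ G → w ∈ h.cen j ∧ w ∉ h.cen i₀ := by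
    intro j
    by_cases hj : j ∈ B ∧ j ∉ G
    · have hnle : ¬ h.cen j ≤ h.cen i₀ := fun hle => hj.2 (Finset.mem_filter.2 ⟨hj.1,
        le_antisymm hle (hPmin (Finset.mem_image_of_mem _ hj.1) hle)⟩)
      obtain ⟨w, hw1, hw2⟩ := SetLike.not_le_iff_exists.1 hnle
      exact ⟨w, fun _ _ => ⟨hw1, hw2⟩⟩
    · exact ⟨1, fun a b => absurd ⟨a, b⟩ hj⟩
  choose w hw using hw
  let W : S := ∏ j ∈ B.filter (· ∉ G), w j
  have hWP : W ∉ h.cen i₀ := fun hW => by
    obtain ⟨j, hj, hj'⟩ := (Ideal.IsPrime.prod_mem_iff (p := h.cen i₀)).1 hW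
    rw [Finset.mem_filter] at hj
    exact (hw j hj.1 hj.2).2 hj'
  have hWlt : ∀ j ∈ B.filter (· ∉ G), val j (W : K) < 1 := fun j hj => by
    refine (h.mem_cen).1 ((Ideal.IsPrime.prod_mem_iff (hp := h.cen_isPrime j)).2 ⟨j, hj, ?_⟩)
    rw [Finset.mem_filter] at hj
    exact (hw j hj.1 hj.2).1
  obtain ⟨n, hn⟩ := exists_pow_mul_le_one (val := val) hWlt x
  set x1 := (W : K) ^ n * x with hx1
  have hx1G : ∀ j ∈ G, 1 < val j x1 := fun j hj => by
    obtain ⟨hjB, hjc⟩ := Finset.mem_filter.1 hj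
    have hW1 : val j (W : K) = 1 := h.notMem_cen.1 (hjc ▸ hWP)
    rw [hx1, map_mul, map_pow, hW1, one_pow, one_mul]
    exact hfin.mem_toFinset.1 hjB
  have hx1out : ∀ j ∉ G, val j x1 ≤ 1 := fun j hj => by
    by_cases hjB : j ∈ B
    · exact hn j (Finset.mem_filter.2 ⟨hjB, hj⟩)
    · rw [hx1, map_mul, map_pow]
      exact mul_le_one' (pow_le_one₀ zero_le (h.le_one j W))
        (not_lt.1 fun e => hjB (hfin.mem_toFinset.2 e))
  obtain ⟨t, ht, ht0⟩ := Submodule.exists_mem_ne_zero_of_ne_bot hk0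
  have ht0' : (t : K) ≠ 0 := fun e => ht0 (Subtype.ext e)
  have hvx1 : ∀ j, val j x1 ≠ 0 := fun j => (Valuation.ne_zero_iff _).2
    (mul_ne_zero (pow_ne_zero _ (fun e => hWP (by
      rw [show W = 0 from Subtype.ext e]; exact Ideal.zero_mem _))) hx0)
  set m := G.sup (fun j => (-WithZero.log (val j (t : K))).toNat) + 1 with hm
  set x2 := x1 ^ m * (t : K) ^ 1 with hx2
  have hx2G : ∀ j ∈ G, 1 < val j x2 := fun j hj => by
    have hvt : val j (t : K) ≠ 0 := (Valuation.ne_zero_iff _).2 ht0'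
    rw [← WithZero.log_lt_log one_ne_zero ((Valuation.ne_zero_iff _).2
      (mul_ne_zero (pow_ne_zero _ ((Valuation.ne_zero_iff _).1 (hvx1 j))) (pow_ne_zero _ ht0'))),
      WithZero.log_one, log_pow_mul_pow j (hvx1 j) hvt]
    have h1 : 1 ≤ WithZero.log (val j x1) := by
      have := (WithZero.log_lt_log one_ne_zero (hvx1 j)).2 (hx1G j hj)
      rw [WithZero.log_one] at this; omega
    have h2 : (-WithZero.log (val j (t : K))).toNat + 1 ≤ m := Nat.succ_le_succ
      (Finset.le_sup (f := fun j => (-WithZero.log (val j (t : K))).toNat) hj)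
    have h3 : (m : ℤ) * 1 ≤ (m : ℤ) * WithZero.log (val j x1) :=
      mul_le_mul_of_nonneg_left h1 (Int.natCast_nonneg m)
    have h4 := Int.self_le_toNat (-WithZero.log (val j (t : K)))
    have h5 : ((-WithZero.log (val j (t : K))).toNat : ℤ) + 1 ≤ m := by exact_mod_cast h2
    push_cast
    linarith
  have hkG : k ∉ G := fun hk => hkB (Finset.mem_filter.1 hk).1
  have hx2k : val k x2 < 1 := by
    rw [hx2, pow_one, map_mul, map_pow]
    exact (mul_le_mul_left (pow_le_one₀ zero_le (hx1out k hkG)) _).trans_lt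
      (by simpa using h.mem_cen.1 ht)
  have hx2out : ∀ j ∉ G, val j x2 ≤ 1 := fun j hj => by
    rw [hx2, pow_one, map_mul, map_pow]
    exact mul_le_one' (pow_le_one₀ zero_le (hx1out j hj)) (h.le_one j t)
  obtain ⟨u, hu, hu'⟩ := SetLike.not_le_iff_exists.1 (not_le_of_gt hklt)
  have hu0 : (u : K) ≠ 0 := fun e => hu' (by
    rw [show u = 0 from Subtype.ext e]; exact Ideal.zero_mem _)
  obtain ⟨i', hi', a, b, ha, hb, hzS, hz1⟩ := h.exists_balanced
    (G := G) ⟨i₀, Finset.mem_filter.2 ⟨hi₀, rfl⟩⟩ u.2 hu0 hx2G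
    (fun j hj => by
      have := (Finset.mem_filter.1 hj).2
      exact h.mem_cen.1 (this ▸ hu)) hx2out
  have hzP : (⟨_, hzS⟩ : S) ∉ h.cen i₀ := by
    rw [← (Finset.mem_filter.1 hi').2]; exact h.notMem_cen.2 hz1
  refine hzP (hklt.le (h.mem_cen.2 ?_))
  show val k (x2 ^ a * (u : K) ^ b) < 1
  rw [map_mul, map_pow, map_pow, h.notMem_cen.1 hu', one_pow, mul_one]
  exact pow_lt_one₀ zero_le hx2k ha.ne'

/-- a minimal centre determines the valuation ring -/
theorem le_one_of_cen_eq {i j : ι} {x : K} (hi : h.cen i ≠ ⊥)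
    (hmin : ∀ P : Ideal S, P.IsPrime → P ≠ ⊥ → P ≤ h.cen i → P = h.cen i)
    (hij : h.cen j = h.cen i) (hx : val i x ≤ 1) : val j x ≤ 1 := by
  classical
  by_contra hj
  push Not at hj
  haveI := h.cen_isPrime i
  have hx0 : x ≠ 0 := fun e => by rw [e, map_zero] at hj; exact not_lt_zero hj
  have hfin : {i | 1 < val i x}.Finite := (h.finite x hx0).subset fun i hi => ne_of_gt hi
  set G := hfin.toFinset.filter fun l => h.cen l = h.cen i with hG
  have hw : ∀ l, ∃ w : S, 1 < val l x → h.cen l ≠ h.cen i → w ∈ h.cen l ∧ w ∉ h.cen i := by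
    intro l
    by_cases hl : 1 < val l x ∧ h.cen l ≠ h.cen i
    · have hnle : ¬ h.cen l ≤ h.cen i := fun hle => hl.2
        (hmin _ (h.cen_isPrime l) (h.cen_ne_bot_of_one_lt hl.1) hle)
      obtain ⟨w, hw1, hw2⟩ := SetLike.not_le_iff_exists.1 hnle
      exact ⟨w, fun _ _ => ⟨hw1, hw2⟩⟩
    · exact ⟨1, fun a b => absurd ⟨a, b⟩ hl⟩
  choose w hw using hw
  set O := hfin.toFinset.filter fun l => h.cen l ≠ h.cen i with hO
  let W : S := ∏ l ∈ O, w l
  have hWP : W ∉ h.cen i := fun hW => by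
    obtain ⟨l, hl, hl'⟩ := (Ideal.IsPrime.prod_mem_iff (p := h.cen i)).1 hW
    rw [hO, Finset.mem_filter] at hl
    exact (hw l (hfin.mem_toFinset.1 hl.1) hl.2).2 hl'
  have hWlt : ∀ l ∈ O, val l (W : K) < 1 := fun l hl => by
    refine (h.mem_cen).1 ((Ideal.IsPrime.prod_mem_iff (hp := h.cen_isPrime l)).2 ⟨l, hl, ?_⟩)
    rw [hO, Finset.mem_filter] at hl
    exact (hw l (hfin.mem_toFinset.1 hl.1) hl.2).1
  obtain ⟨n, hn⟩ := exists_pow_mul_le_one (val := val) hWlt x
  set x1 := (W : K) ^ n * x with hx1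
  have hW1 : ∀ l, h.cen l = h.cen i → val l (W : K) = 1 := fun l hl => h.notMem_cen.1 (hl ▸ hWP)
  have hx1G : ∀ l ∈ G, 1 < val l x1 := fun l hl => by
    rw [hG, Finset.mem_filter] at hl
    rw [hx1, map_mul, map_pow, hW1 l hl.2, one_pow, one_mul]
    exact hfin.mem_toFinset.1 hl.1
  have hx1out : ∀ l ∉ G, val l x1 ≤ 1 := fun l hl => by
    by_cases hlB : 1 < val l x
    · refine hn l (Finset.mem_filter.2 ⟨hfin.mem_toFinset.2 hlB, fun e => hl ?_⟩)
      exact Finset.mem_filter.2 ⟨hfin.mem_toFinset.2 hlB, e⟩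
    · rw [hx1, map_mul, map_pow]
      exact mul_le_one' (pow_le_one₀ zero_le (h.le_one l W)) (not_lt.1 hlB)
  obtain ⟨u, hu, hu0⟩ := Submodule.exists_mem_ne_zero_of_ne_bot hi
  obtain ⟨l, hl, a, b, ha, hb, hzS, hz1⟩ := h.exists_balanced
    (G := G) ⟨j, Finset.mem_filter.2 ⟨hfin.mem_toFinset.2 hj, hij⟩⟩ u.2
    (fun e => hu0 (Subtype.ext e)) hx1G
    (fun l hl => h.mem_cen.1 ((Finset.mem_filter.1 hl).2 ▸ hu)) hx1out
  have hzP : (⟨_, hzS⟩ : S) ∉ h.cen i := by
    rw [← (Finset.mem_filter.1 hl).2]; exact h.notMem_cen.2 hz1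
  refine hzP (h.mem_cen.2 ?_)
  show val i (x1 ^ a * (u : K) ^ b) < 1
  rw [map_mul, map_pow, map_pow]
  have h1 : val i x1 ≤ 1 := by
    rw [hx1, map_mul, map_pow, hW1 i rfl, one_pow, one_mul]; exact hx
  exact (mul_le_mul_left (pow_le_one₀ zero_le h1) _).trans_lt
    (by simpa using pow_lt_one₀ zero_le (h.mem_cen.1 hu) hb.ne')

end IsKrullFamily

end Groth.Agent.H3CAlg.Mori
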