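import Groth.Agent.H3CAlg.Mori.Index

/-! Lifting primes of the integral closure of `A` in `K` to the normalizations of `B`. -/

set_option autoImplicit false
set_option maxHeartbeats 1000000
universe u

open CAlg
open scoped WithZero TensorProduct

namespace Groth.Agent.H3CAlg.Mori

variable {A : Type u} [CommRing A] [IsDomain A] (K : Type u) [Field K] [Algebra A K] [IsFractionRing A K]
  {B : Type u} [CommRing B] [Algebra A B] [IsNoetherianRing B] [Module.FaithfullyFlat A B]

noncomputable def rho (P : minimalPrimes B) : integralClosure A K →ₐ[A] N B P where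
  toFun s := ⟨toL (A := A) K B P s.1, (isIntegral_iff K B s.1).1 s.2 P⟩
  map_one' := Subtype.ext (map_one _)
  map_mul' _ _ := Subtype.ext (map_mul _ _ _)
  map_zero' := Subtype.ext (map_zero _)
  map_add' _ _ := Subtype.ext (map_add _ _ _)
  commutes' a := Subtype.ext (toL_algebraMap K B P a)

omit [IsDomain A] [IsFractionRing A K] [IsNoetherianRing B] [Module.FaithfullyFlat A B] in
theorem exists_prime_tensor {S : Type u} [CommRing S] [Algebra A S] (P' : Ideal S) [P'.IsPrime]
    (q : Ideal B) [q.IsPrime] (h : P'.comap (algebraMap A S) = q.comap (algebraMap A B)) :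
    ∃ M : Ideal (S ⊗[A] B), M.IsPrime ∧
      M.comap (Algebra.TensorProduct.includeLeftRingHom) = P' ∧
      M.comap (Algebra.TensorProduct.includeRight : B →ₐ[A] S ⊗[A] B).toRingHom = q := by
  let p := P'.comap (algebraMap A S)
  letI : Algebra p.ResidueField P'.ResidueField := (Ideal.ResidueField.map p P' (algebraMap A S) rfl).toAlgebra
  letI : Algebra p.ResidueField q.ResidueField := (Ideal.ResidueField.map p q (algebraMap A B) h).toAlgebra
  haveI : IsScalarTower A p.ResidueField P'.ResidueField := IsScalarTower.of_algebraMap_eq fun a => by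
    rw [RingHom.algebraMap_toAlgebra, Ideal.ResidueField.map_algebraMap]
    exact IsScalarTower.algebraMap_apply A S P'.ResidueField a
  haveI : IsScalarTower A p.ResidueField q.ResidueField := IsScalarTower.of_algebraMap_eq fun a => by
    rw [RingHom.algebraMap_toAlgebra, Ideal.ResidueField.map_algebraMap]
    exact IsScalarTower.algebraMap_apply A B q.ResidueField a
  let T := P'.ResidueField ⊗[p.ResidueField] q.ResidueField
  haveI : Nontrivial T := inferInstanceAs (Nontrivial (P'.ResidueField ⊗[p.ResidueField] q.ResidueField))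
  let f1 : S →ₐ[A] T := ((Algebra.TensorProduct.includeLeft : P'.ResidueField →ₐ[A] T)).comp
    (IsScalarTower.toAlgHom A S P'.ResidueField)
  let f2 : B →ₐ[A] T := ((Algebra.TensorProduct.includeRight :
    q.ResidueField →ₐ[p.ResidueField] T).restrictScalars A).comp (IsScalarTower.toAlgHom A B q.ResidueField)
  let g : S ⊗[A] B →ₐ[A] T := Algebra.TensorProduct.lift f1 f2 fun _ _ => Commute.all _ _
  obtain ⟨M0, hM0⟩ := Ideal.exists_maximal T
  haveI := hM0.isPrime
  refine ⟨M0.comap g.toRingHom, Ideal.comap_isPrime _ _, ?_, ?_⟩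
  · rw [Ideal.comap_comap]
    have : (g.toRingHom.comp Algebra.TensorProduct.includeLeftRingHom) =
        (Algebra.TensorProduct.includeLeftRingHom : P'.ResidueField →+* T).comp (algebraMap S P'.ResidueField) := by
      ext s; simp [g, f1]
    rw [this, ← Ideal.comap_comap, Ideal.eq_bot_of_prime (M0.comap _), ← RingHom.ker_eq_comap_bot,
      Ideal.ker_algebraMap_residueField]
  · rw [Ideal.comap_comap]
    have : (g.toRingHom.comp (Algebra.TensorProduct.includeRight : B →ₐ[A] S ⊗[A] B).toRingHom) =
        ((Algebra.TensorProduct.includeRight : q.ResidueField →ₐ[p.ResidueField] T).toRingHom).comp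
          (algebraMap B q.ResidueField) := by
      ext s; simp [g, f2]
    rw [this, ← Ideal.comap_comap, Ideal.eq_bot_of_prime (M0.comap _), ← RingHom.ker_eq_comap_bot,
      Ideal.ker_algebraMap_residueField]

omit [IsDomain A] in
theorem exists_factor {ι : Type u} [Fintype ι] {R : ι → Type u} [∀ i, CommRing (R i)]
    (Q' : Ideal (∀ i, R i)) [Q'.IsPrime] :
    ∃ i, ∃ Q : Ideal (R i), Q.IsPrime ∧ Q.comap (Pi.evalRingHom R i) = Q' := by
  classical
  obtain ⟨i, hi⟩ : ∃ i, (Pi.single i 1 : ∀ i, R i) ∉ Q' := by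
    by_contra hh
    push Not at hh
    refine (inferInstance : Q'.IsPrime).ne_top ((Ideal.eq_top_iff_one _).2 ?_)
    rw [← Finset.univ_sum_single (1 : ∀ i, R i)]
    exact Ideal.sum_mem _ fun j _ => hh j
  have hker : RingHom.ker (Pi.evalRingHom R i) ≤ Q' := fun f hf => by
    have h0 : Pi.single i 1 * f = 0 := by
      ext j
      rcases eq_or_ne j i with rfl | hj
      · simpa using hf
      · simp [hj]
    exact ((inferInstance : Q'.IsPrime).mem_or_mem (h0 ▸ Q'.zero_mem)).resolve_left hi
  have hsurj : Function.Surjective (Pi.evalRingHom R i) := fun r => ⟨Pi.single i r, by simp⟩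
  refine ⟨i, Q'.map (Pi.evalRingHom R i), Ideal.map_isPrime_of_surjective hsurj hker, ?_⟩
  rw [Ideal.comap_map_of_surjective _ hsurj, sup_eq_left]
  rwa [← RingHom.ker_eq_comap_bot]

/-- every pair of compatible primes of the integral closure and of `B` comes from a normalization -/
theorem exists_lift (hB : IsNagata B) (P' : Ideal (integralClosure A K)) [P'.IsPrime]
    (q : Ideal B) [q.IsPrime] (h : P'.comap (algebraMap A (integralClosure A K)) = q.comap (algebraMap A B)) :
    ∃ (P : minimalPrimes B) (Q : Ideal (N B P)), Q.IsPrime ∧ Q.comap (algebraMap B (N B P)) = q ∧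
      Q.comap (rho (A := A) K P).toRingHom = P' := by
  classical
  haveI : Fintype (minimalPrimes B) := (minimalPrimes.finite_of_isNoetherianRing B).fintype
  haveI : ∀ P : minimalPrimes B, Module.Finite B (N B P) := fun P => finite_N hB P
  obtain ⟨M, hM, hML, hMR⟩ := exists_prime_tensor P' q h
  let T := integralClosure A K ⊗[A] B
  let Ψ : integralClosure A K ⊗[A] B →ₐ[A] (∀ P : minimalPrimes B, N B P) :=
    Algebra.TensorProduct.lift (Pi.algHom A (fun P => N B P) fun P => rho (A := A) K P)
      (IsScalarTower.toAlgHom A B (∀ P : minimalPrimes B, N B P)) fun _ _ => Commute.all _ _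
  have hΨ : ∀ t P, psi (A := A) K B P
      (Algebra.TensorProduct.map (integralClosure A K).val (AlgHom.id A B) t) = (Ψ t P).1 := by
    intro t P
    induction t using TensorProduct.induction_on with
    | zero => simp
    | tmul s b =>
      rw [Algebra.TensorProduct.map_tmul, psi_tmul]
      simp only [Ψ, Algebra.TensorProduct.lift_tmul, Pi.mul_apply, Pi.algHom_apply]
      rfl
    | add t₁ t₂ h₁ h₂ => rw [map_add, map_add, map_add, h₁, h₂]; rfl
  have hker : RingHom.ker Ψ.toRingHom ≤ M := fun t ht => by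
    have hn : IsNilpotent (Algebra.TensorProduct.map (integralClosure A K).val (AlgHom.id A B) t) := by
      refine nilpotent_of_forall K B fun P => ?_
      rw [hΨ, show Ψ t = 0 from ht]; rfl
    have hinj : Function.Injective
        (Algebra.TensorProduct.map (integralClosure A K).val (AlgHom.id A B)) :=
      Module.Flat.rTensor_preserves_injective_linearMap (M := B) (integralClosure A K).val.toLinearMap
        Subtype.val_injective
    obtain ⟨n, hn⟩ := (IsNilpotent.map_iff hinj).1 hn
    exact hM.mem_of_pow_mem n (hn ▸ M.zero_mem)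
  letI : Algebra (integralClosure A K ⊗[A] B) (∀ P : minimalPrimes B, N B P) := Ψ.toRingHom.toAlgebra
  haveI : Algebra.IsIntegral (integralClosure A K ⊗[A] B) (∀ P : minimalPrimes B, N B P) := by
    have hint : (algebraMap B (∀ P : minimalPrimes B, N B P)).IsIntegral :=
      algebraMap_isIntegral_iff.2 inferInstance
    have heq : Ψ.toRingHom.comp (Algebra.TensorProduct.includeRight : B →ₐ[A] _).toRingHom =
        algebraMap B (∀ P : minimalPrimes B, N B P) := by
      ext b P
      simp [Ψ]
    rw [← heq] at hint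
    exact ⟨RingHom.IsIntegral.tower_top _ _ hint⟩
  haveI := hM
  obtain ⟨Q', -, hQ', hQ'M⟩ := Ideal.exists_ideal_over_prime_of_isIntegral M
    (⊥ : Ideal (∀ P : minimalPrimes B, N B P)) hker
  haveI := hQ'
  obtain ⟨P, Q, hQ, hQQ'⟩ := exists_factor Q'
  refine ⟨P, Q, hQ, ?_, ?_⟩
  · rw [← hMR, ← hQ'M, ← hQQ', Ideal.comap_comap, Ideal.comap_comap]
    congr 1
    ext b
    simp [RingHom.algebraMap_toAlgebra, Ψ]
  · rw [← hML, ← hQ'M, ← hQQ', Ideal.comap_comap, Ideal.comap_comap]
    congr 1
    ext s
    simp [RingHom.algebraMap_toAlgebra, Ψ]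

theorem ker_le_comap (P : minimalPrimes B) (Q : Ideal (N B P)) :
    P.1 ≤ Q.comap (algebraMap B (N B P)) := fun b hb => by
  have h0 : algebraMap B (N B P) b = 0 := by
    rw [IsScalarTower.algebraMap_apply B (B ⧸ P.1) (N B P), Ideal.Quotient.algebraMap_eq,
      Ideal.Quotient.eq_zero_iff_mem.2 hb, map_zero]
  rw [Ideal.mem_comap, h0]; exact Q.zero_mem

omit [IsDomain A] in
/-- a conductor element of the `P`-th normalization vanishing on the other components -/
theorem exists_conductor (hB : IsNagata B) (P : minimalPrimes B) :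
    ∃ c : B, algebraMap B (N B P) c ≠ 0 ∧ (∀ R : minimalPrimes B, R ≠ P → c ∈ R.1) ∧
      ∀ y : N B P, ∃ b : B, algebraMap B (N B P) b = algebraMap B (N B P) c * y := by
  classical
  haveI : Fintype (minimalPrimes B) := (minimalPrimes.finite_of_isNoetherianRing B).fintype
  haveI := finite_N hB P
  haveI : Module.Finite (B ⧸ P.1) (N B P) := Module.Finite.of_restrictScalars_finite B _ _
  obtain ⟨S, hS⟩ := Module.Finite.fg_top (R := B ⧸ P.1) (M := N B P)
  obtain ⟨⟨d, hd⟩, hdS⟩ := IsLocalization.exist_integer_multiples (nonZeroDivisors (B ⧸ P.1)) S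
    (fun y : N B P => (y.1 : L B P))
  have hall : ∀ y : N B P, ∃ e : B ⧸ P.1, algebraMap (B ⧸ P.1) (N B P) e = d • y := fun y => by
    have hy : y ∈ Submodule.span (B ⧸ P.1) (S : Set (N B P)) := by rw [hS]; trivial
    induction hy using Submodule.span_induction with
    | mem z hz =>
      obtain ⟨e, he⟩ := hdS z hz
      exact ⟨e, Subtype.ext he⟩
    | zero => exact ⟨0, by simp⟩
    | add a b _ _ ha hb =>
      obtain ⟨e, he⟩ := ha; obtain ⟨e', he'⟩ := hb
      exact ⟨e + e', by rw [map_add, he, he', smul_add]⟩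
    | smul r a _ ha =>
      obtain ⟨e, he⟩ := ha
      exact ⟨r * e, by rw [map_mul, he, ← Algebra.smul_def, smul_comm]⟩
  obtain ⟨d', rfl⟩ := Ideal.Quotient.mk_surjective d
  have hw : ∀ R : minimalPrimes B, ∃ w : B, R ≠ P → w ∈ R.1 ∧ w ∉ P.1 := fun R => by
    by_cases hR : R = P
    · exact ⟨1, fun e => absurd hR e⟩
    · have hnle : ¬ R.1 ≤ P.1 := fun hle => hR (Subtype.ext (le_antisymm hle (P.2.2 R.2.1 hle)))
      obtain ⟨w, h1, h2⟩ := SetLike.not_le_iff_exists.1 hnle
      exact ⟨w, fun _ => ⟨h1, h2⟩⟩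
  choose w hw using hw
  refine ⟨d' * ∏ R ∈ Finset.univ.erase P, w R, ?_, fun R hR => ?_, fun y => ?_⟩
  · intro h0
    rw [IsScalarTower.algebraMap_apply B (B ⧸ P.1) (N B P), Ideal.Quotient.algebraMap_eq] at h0
    have h1 : Ideal.Quotient.mk P.1 (d' * ∏ R ∈ Finset.univ.erase P, w R) = 0 := by
      refine IsFractionRing.injective (B ⧸ P.1) (L B P) ?_
      rw [map_zero]; exact congr_arg Subtype.val h0
    rw [map_mul] at h1
    refine (mul_eq_zero.1 h1).elim (nonZeroDivisors.ne_zero hd) fun h2 => ?_
    obtain ⟨R, hR, hR'⟩ := (Ideal.IsPrime.prod_mem_iff (p := P.1)).1 (Ideal.Quotient.eq_zero_iff_mem.1 h2)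
    exact (hw R (Finset.ne_of_mem_erase hR)).2 hR'
  · exact Ideal.mul_mem_left _ _ (R.1.mem_of_dvd (Finset.dvd_prod_of_mem w
      (Finset.mem_erase.2 ⟨hR, Finset.mem_univ R⟩)) (hw R hR).1)
  · obtain ⟨e, he⟩ := hall y
    obtain ⟨e', rfl⟩ := Ideal.Quotient.mk_surjective e
    refine ⟨e' * ∏ R ∈ Finset.univ.erase P, w R, ?_⟩
    rw [map_mul, map_mul]
    have h1 : algebraMap B (N B P) e' = algebraMap B (N B P) d' * y := by
      rw [IsScalarTower.algebraMap_apply B (B ⧸ P.1) (N B P) e', Ideal.Quotient.algebraMap_eq, he,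
        Algebra.smul_def, IsScalarTower.algebraMap_apply B (B ⧸ P.1) (N B P) d', Ideal.Quotient.algebraMap_eq]
    rw [h1]; ring

end Groth.Agent.H3CAlg.Mori
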